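import Cfsg.Agent.Lib.Basics.Tools
import Cfsg.Agent.Lib.Basics.Schmidt
import Cfsg.Agent.Lib.Transfer.Residual
import Cfsg.Agent.Lib.InvChar.OneSubgroup
import Cfsg.Agent.Lib.Basics.FpfAbelian
import Cfsg.Agent.Lib.Coprime23.PiSubnormal

/-!
Groups in which abelian subgroups of equal order are conjugate: lifting abelian subgroups of
quotients.
-/

set_option autoImplicit false
set_option linter.style.haveILetI false

namespace Cfsg.Agent.BGroup23

open Subgroup
open scoped commutatorElement

variable {G : Type*} [Group G] [Finite G]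

/-- Abelian subgroups of equal order are conjugate. -/
def HB (G : Type*) [Group G] : Prop :=
  ∀ A B : Subgroup G, IsMulCommutative ↥A → IsMulCommutative ↥B → Nat.card ↥A = Nat.card ↥B →
    ∃ g : G, B = A.map (MulAut.conj g).toMonoidHom

theorem mem_of_orderOf_eq (hB : HB G) (M : Subgroup G) [M.Normal] {a m : G} (hm : m ∈ M)
    (he : orderOf m = orderOf a) : a ∈ M := by
  obtain ⟨g, hg⟩ := hB (zpowers m) (zpowers a) inferInstance inferInstance
    (by rw [Nat.card_zpowers, Nat.card_zpowers, he])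
  obtain ⟨y, hy, hya⟩ : a ∈ (zpowers m).map (MulAut.conj g).toMonoidHom := hg ▸ mem_zpowers a
  rw [← hya]
  exact (inferInstance : M.Normal).conj_mem y (zpowers_le.mpr hm hy) g

/-- An element of order `p²` leaves a Sylow `p`-subgroup with one subgroup of order `p`. -/
theorem sylow_unique (hB : HB G) {p : ℕ} [hp : Fact p.Prime] {x : G} (hx : orderOf x = p ^ 2)
    (P : Sylow p G) : ∀ H K : Subgroup (P : Subgroup G), Nat.card H = p → Nat.card K = p → H = K := by
  have hno : ∀ z w : (P : Subgroup G), orderOf z = p → orderOf w = p → Commute z w → w ∈ zpowers z := by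
    intro z w hz hw hc
    by_contra hwz
    set E := zpowers z ⊔ zpowers w
    have hn : zpowers w ≤ normalizer (zpowers z : Set ↥(P : Subgroup G)) := by
      refine le_trans ?_ (centralizer_le_normalizer _)
      rw [zpowers_le, mem_centralizer_iff]
      intro y hy
      obtain ⟨i, rfl⟩ := mem_zpowers_iff.mp hy
      exact (hc.zpow_left i).eq
    have hinf : zpowers z ⊓ zpowers w = ⊥ := by
      refine (eq_bot_iff_forall _).mpr fun y hy => ?_
      by_contra hy1
      refine hwz ?_
      have h1 : zpowers y = zpowers w := by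
        refine eq_of_le_of_card_ge (zpowers_le.mpr hy.2) ?_
        rw [Nat.card_zpowers, Nat.card_zpowers, hw]
        rcases (Nat.dvd_prime hp.out).mp ((orderOf_dvd_of_mem_zpowers hy.2).trans (dvd_of_eq hw)) with h | h
        · exact absurd (orderOf_eq_one_iff.mp h) hy1
        · exact h.ge
      exact zpowers_le.mpr hy.1 (h1 ▸ mem_zpowers w)
    have hcard : Nat.card E = p ^ 2 := by
      have := Basics.card_mul_card_eq_card_sup_mul_card_inf hn
      rw [hinf, card_bot, mul_one, Nat.card_zpowers, Nat.card_zpowers, hz, hw] at this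
      rw [← this, sq]
    have hexp : ∀ y ∈ E, y ^ p = 1 := by
      intro y hy
      obtain ⟨a, ha, b, hb, rfl⟩ := (Basics.mem_sup_of_le_normalizer hn).mp hy
      obtain ⟨i, rfl⟩ := mem_zpowers_iff.mp ha
      obtain ⟨j, rfl⟩ := mem_zpowers_iff.mp hb
      rw [((hc.zpow_left i).zpow_right j).mul_pow, ← zpow_natCast, ← zpow_natCast, ← zpow_mul,
        ← zpow_mul, mul_comm i, mul_comm j, zpow_mul, zpow_mul, zpow_natCast, zpow_natCast,
        show z ^ p = 1 from orderOf_dvd_iff_pow_eq_one.mp (dvd_of_eq hz),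
        show w ^ p = 1 from orderOf_dvd_iff_pow_eq_one.mp (dvd_of_eq hw),
        one_zpow, one_zpow, one_mul]
    have hEc : IsMulCommutative ↥E := by
      refine ⟨⟨fun u v => Subtype.ext ?_⟩⟩
      obtain ⟨a₁, ha₁, b₁, hb₁, hu⟩ := (Basics.mem_sup_of_le_normalizer hn).mp u.2
      obtain ⟨a₂, ha₂, b₂, hb₂, hv⟩ := (Basics.mem_sup_of_le_normalizer hn).mp v.2
      obtain ⟨i₁, rfl⟩ := mem_zpowers_iff.mp ha₁
      obtain ⟨i₂, rfl⟩ := mem_zpowers_iff.mp ha₂
      obtain ⟨j₁, rfl⟩ := mem_zpowers_iff.mp hb₁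
      obtain ⟨j₂, rfl⟩ := mem_zpowers_iff.mp hb₂
      show (u : ↥(P : Subgroup G)) * (v : ↥(P : Subgroup G)) = (v : ↥(P : Subgroup G)) * u
      rw [hu, hv]
      have c1 : Commute (z ^ i₁ * w ^ j₁) (z ^ i₂ * w ^ j₂) :=
        ((Commute.zpow_zpow_self z i₁ i₂).mul_right ((hc.zpow_left i₁).zpow_right j₂)).mul_left
          (((hc.symm.zpow_left j₁).zpow_right i₂).mul_right (Commute.zpow_zpow_self w j₁ j₂))
      exact c1.eq
    have habel : IsMulCommutative ↥(E.map (P : Subgroup G).subtype) := by
      refine ⟨⟨fun a b => ?_⟩⟩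
      obtain ⟨_, a', ha', rfl⟩ := a
      obtain ⟨_, b', hb', rfl⟩ := b
      refine Subtype.ext ?_
      exact congrArg (fun t : E => ((t : ↥(P : Subgroup G)) : G))
        (hEc.is_comm.comm ⟨a', ha'⟩ ⟨b', hb'⟩)
    obtain ⟨g, hg⟩ := hB (E.map (P : Subgroup G).subtype) (zpowers x) habel inferInstance
      (by rw [card_map_of_injective (P : Subgroup G).subtype_injective, hcard, Nat.card_zpowers, hx])
    obtain ⟨y, ⟨y', hy', rfl⟩, hyx⟩ : x ∈ (E.map (P : Subgroup G).subtype).map (MulAut.conj g).toMonoidHom :=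
      hg ▸ mem_zpowers x
    have h1 : x ^ p = 1 := by
      rw [← hyx, ← map_pow, ← map_pow, hexp y' hy', map_one, map_one]
    have h2 := orderOf_dvd_of_pow_eq_one h1
    rw [hx] at h2
    have h3 := Nat.le_of_dvd hp.out.pos h2
    nlinarith [hp.out.two_le]
  intro H K hH hK
  haveI : Nontrivial ↥(P : Subgroup G) := by
    by_contra h
    rw [not_nontrivial_iff_subsingleton] at h
    have : Nat.card H = 1 := Nat.card_of_subsingleton (1 : H)
    exact hp.out.ne_one (hH ▸ this)
  haveI := P.2.center_nontrivial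
  obtain ⟨z, hz⟩ := exists_prime_orderOf_dvd_card' (G := center ↥(P : Subgroup G)) p (by
    rcases ((P.2).to_subgroup (center ↥(P : Subgroup G))).card_eq_or_dvd with h | h
    · exact absurd h (Finite.one_lt_card).ne'
    · exact h)
  rw [← Subgroup.orderOf_coe] at hz
  have key : ∀ H : Subgroup ↥(P : Subgroup G), Nat.card H = p → H = zpowers (z : ↥(P : Subgroup G)) := by
    intro H hH
    obtain ⟨⟨w, hwH⟩, hw⟩ := exists_prime_orderOf_dvd_card' (G := H) p (dvd_of_eq hH.symm)
    rw [Subgroup.orderOf_mk] at hw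
    have h1 := hno _ w hz hw (mem_center_iff.mp z.2 w).symm
    have h2 : zpowers w = zpowers (z : ↥(P : Subgroup G)) := eq_of_le_of_card_ge (zpowers_le.mpr h1)
      (by rw [Nat.card_zpowers, Nat.card_zpowers, hz, hw])
    rw [← h2]
    exact (eq_of_le_of_card_ge (zpowers_le.mpr hwH) (by rw [Nat.card_zpowers, hw, hH])).symm
  rw [key H hH, key K hK]

/-- Lifting an abelian subgroup of a quotient to an abelian Hall subgroup of its preimage. -/
theorem exists_abelian_lift (M : Subgroup G) [M.Normal] (A : Subgroup (G ⧸ M))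
    (hA : IsMulCommutative ↥A)
    (hS : ∀ p : ℕ, p.Prime → p ∣ Nat.card A → p ∣ Nat.card M → ∀ P : Sylow p G, IsCyclic ↥(P : Subgroup G)) :
    ∃ U : Subgroup G, IsMulCommutative ↥U ∧ U.map (QuotientGroup.mk' M) = A ∧
      ∀ p : ℕ, p.Prime →
        (Nat.card U).factorization p =
          if p ∣ Nat.card A then (Nat.card ↥(A.comap (QuotientGroup.mk' M))).factorization p else 0 := by
  set π := QuotientGroup.mk' M
  set X := A.comap π with hX
  have hXA : X.map π = A := map_comap_eq_self_of_surjective (QuotientGroup.mk'_surjective M) A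
  obtain ⟨U, -, hUX, hUmin⟩ := Finite.exists_le_minimal (p := fun U : Subgroup G => U.map π = A)
    (a := X) hXA
  set f : U →* G ⧸ M := π.comp U.subtype with hf
  have hfA : f.range = A := by
    rw [hf, MonoidHom.range_comp, range_subtype, hUX]
  have hcom : _root_.commutator U ≤ f.ker := by
    rw [_root_.commutator_def, commutator_le]
    intro a _ b _
    rw [MonoidHom.mem_ker, map_commutatorElement, commutatorElement_eq_one_iff_mul_comm]
    exact congrArg Subtype.val (hA.is_comm.comm ⟨f a, hfA ▸ ⟨a, rfl⟩⟩ ⟨f b, hfA ▸ ⟨b, rfl⟩⟩)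
  haveI : Group.IsNilpotent U := by
    refine ((Group.isNilpotent_of_finite_tfae (G := U)).out 0 2 rfl rfl).mpr fun W hW => ?_
    have hkW : f.ker ≤ W := by
      by_contra hk
      have h1 : W ⊔ f.ker = ⊤ := hW.2 _ (left_lt_sup.mpr hk)
      have h2 : (W.map U.subtype).map π = A := by
        rw [map_map, ← hf, ← hfA, MonoidHom.range_eq_map, ← h1, Subgroup.map_sup,
          (Subgroup.map_eq_bot_iff f.ker).mpr le_rfl, sup_bot_eq]
      have h3 := hUmin h2 (map_subtype_le W)
      refine hW.1 (map_injective U.subtype_injective ?_)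
      rw [← MonoidHom.range_eq_map, range_subtype]
      exact le_antisymm (map_subtype_le W) h3
    refine ⟨fun a ha g => ?_⟩
    have h4 : ⁅g, a⁆ ∈ W := hkW (hcom (by
      rw [_root_.commutator_def]; exact commutator_mem_commutator (mem_top g) (mem_top a)))
    have := W.mul_mem h4 ha
    rwa [commutatorElement_def, inv_mul_cancel_right] at this
  set σ : Set ℕ := {p | p ∣ Nat.card A}
  set V := Cfsg.piCore σ U with hV
  haveI : Group.IsNilpotent V := inferInstance
  -- the Sylow subgroups of `V` are Sylow subgroups of `X`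
  have hsyl : ∀ p : ℕ, ∀ _ : Fact p.Prime, p ∣ Nat.card A → ∀ R : Sylow p U,
      (R : Subgroup U) ≤ V ∧ IsMulCommutative ↥(R : Subgroup U) ∧
      Nat.card ↥(R : Subgroup U) = p ^ (Nat.card X).factorization p ∧
      Nat.card ↥((R : Subgroup U).map f) = p ^ (Nat.card A).factorization p := by
    intro p hp hpA R
    haveI : (R : Subgroup U).Normal := inferInstance
    have hRV : (R : Subgroup U) ≤ V := le_sSup ⟨inferInstance, fun q hq hd => by
      obtain ⟨i, hi⟩ := R.2.exists_card_eq
      rw [hi] at hd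
      exact (Nat.prime_dvd_prime_iff_eq hq hp.out).mp (hq.dvd_of_dvd_pow hd) ▸ hpA⟩
    have hUX' : U ≤ X := map_le_iff_le_comap.mp hUX.le
    set R' := (R : Subgroup U).map U.subtype
    obtain ⟨T, hT⟩ := ((R.2.map U.subtype).comap_subtype (K := X)).exists_le_sylow
    set T' := (T : Subgroup X).map X.subtype
    have hRT : R' ≤ T' := fun y hy => ⟨⟨y, hUX' (map_subtype_le _ hy)⟩, hT hy, rfl⟩
    have hTp : IsPGroup p T' := T.2.map _
    -- images
    set g : X →* A := (π.comp X.subtype).codRestrict A fun x => x.2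
    set g' : U →* A := f.codRestrict A fun x => hfA ▸ ⟨x, rfl⟩
    have hg : Function.Surjective g := fun a => by
      obtain ⟨x, hx⟩ := QuotientGroup.mk'_surjective M (a : G ⧸ M)
      exact ⟨⟨x, show π x ∈ A from hx ▸ a.2⟩, Subtype.ext hx⟩
    have hg' : Function.Surjective g' := fun a => by
      obtain ⟨x, hx⟩ := (hfA.ge a.2 : (a : G ⧸ M) ∈ f.range)
      exact ⟨x, Subtype.ext hx⟩
    have hmapR : R'.map π = (R : Subgroup U).map f := by rw [map_map]
    have hcardA : Nat.card ↥((R : Subgroup U).map f) = p ^ (Nat.card A).factorization p := by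
      rw [← (R.mapSurjective hg').card_eq_multiplicity, Sylow.coe_mapSurjective,
        ← card_map_of_injective A.subtype_injective, map_map]
      rfl
    have hTmap : T'.map π = R'.map π := by
      refine (eq_of_le_of_card_ge (map_mono hRT) ?_).symm
      rw [hmapR, hcardA, ← (T.mapSurjective hg).card_eq_multiplicity, Sylow.coe_mapSurjective,
        ← card_map_of_injective A.subtype_injective, map_map, map_map]
      exact le_of_eq rfl
    have hTR : T' ≤ R' := by
      by_cases hpM : p ∣ Nat.card M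
      · -- cyclic case
        obtain ⟨P, hP⟩ := hTp.exists_le_sylow
        haveI := hS p hp.out hpA hpM P
        haveI : IsCyclic T' := isCyclic_of_injective (inclusion hP) (inclusion_injective hP)
        obtain ⟨⟨a, haT⟩, hgen⟩ := IsCyclic.exists_generator (α := T')
        have hzT : T' ≤ zpowers a := fun y hy => by
          obtain ⟨e, he⟩ := mem_zpowers_iff.mp (hgen ⟨y, hy⟩)
          exact mem_zpowers_iff.mpr ⟨e, congrArg Subtype.val he⟩
        obtain ⟨r, hr, hre⟩ : π a ∈ R'.map π := hTmap ▸ mem_map_of_mem π haT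
        obtain ⟨k, rfl⟩ := mem_zpowers_iff.mp (hzT (hRT hr))
        obtain ⟨e, he⟩ := (IsPGroup.iff_orderOf.mp hTp) ⟨a, haT⟩
        rw [← Subgroup.orderOf_coe] at he
        -- the exponent is prime to `p`
        have hk : (π a) ^ (k - 1) = 1 := by
          rw [zpow_sub, zpow_one, ← map_zpow, hre, mul_inv_cancel]
        have hka : ¬ (p : ℤ) ∣ k := by
          rintro ⟨c, rfl⟩
          have hone : π a = 1 := by
            have h1 : ∀ n : ℕ, π a = (π a) ^ ((p : ℤ) * c) ^ n := by
              intro n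
              induction n with
              | zero => rw [pow_zero, zpow_one]
              | succ n ih => rw [pow_succ, zpow_mul, ← ih, ← map_zpow, hre]
            rw [h1 e, mul_pow, zpow_mul, show ((p : ℤ)) ^ e = ((p ^ e : ℕ) : ℤ) by push_cast; rfl,
              zpow_natCast, ← map_pow, show a ^ p ^ e = 1 from he ▸ pow_orderOf_eq_one a, map_one, one_zpow]
          have h2 : T'.map π = ⊥ := (eq_bot_iff_forall _).mpr (by
            rintro _ ⟨y, hy, rfl⟩
            obtain ⟨d, rfl⟩ := mem_zpowers_iff.mp (hzT hy)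
            rw [map_zpow, hone, one_zpow])
          rw [hTmap, hmapR] at h2
          rw [h2, card_bot] at hcardA
          have h5 := (hp.out.dvd_iff_one_le_factorization Nat.card_pos.ne').mp hpA
          have := (Nat.one_lt_pow (by omega) hp.out.one_lt : 1 < p ^ (Nat.card A).factorization p)
          omega
        obtain ⟨u, v, huv⟩ : IsCoprime (k : ℤ) ((p ^ e : ℕ) : ℤ) := by
          push_cast
          exact (((Nat.prime_iff_prime_int.mp hp.out).coprime_iff_not_dvd.mpr hka).symm).pow_right
        have ha : a ∈ R' := by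
          have h1 : (a ^ k) ^ u = a := by
            have h6 : a ^ (v * ((p ^ e : ℕ) : ℤ)) = 1 := by
              rw [mul_comm, zpow_mul, zpow_natCast, show a ^ p ^ e = 1 from he ▸ pow_orderOf_eq_one a,
                one_zpow]
            have h7 : a ^ (u * k + v * ((p ^ e : ℕ) : ℤ)) = a := by rw [huv, zpow_one]
            rw [zpow_add, h6, mul_one] at h7
            rw [← zpow_mul, mul_comm, h7]
          exact h1 ▸ R'.zpow_mem hr u
        exact hzT.trans (zpowers_le.mpr ha)
      · -- coprime case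
        intro t ht
        obtain ⟨r, hr, hre⟩ : π t ∈ R'.map π := hTmap ▸ mem_map_of_mem π ht
        have hd : r⁻¹ * t ∈ T' ⊓ M := ⟨T'.mul_mem (T'.inv_mem (hRT hr)) ht, QuotientGroup.eq.mp hre⟩
        obtain ⟨i, hi⟩ := (IsPGroup.iff_orderOf.mp hTp) ⟨_, hd.1⟩
        rw [← Subgroup.orderOf_coe] at hi
        have h1 : r⁻¹ * t = 1 := orderOf_eq_one_iff.mp (Nat.eq_one_of_dvd_coprimes
          (((hp.out.coprime_iff_not_dvd.mpr hpM)).pow_left i) hi.dvd (orderOf_dvd_natCard M hd.2))
        rwa [← inv_mul_eq_one.mp h1]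
    have hR'T : R' = T' := le_antisymm hRT hTR
    refine ⟨hRV, ?_, ?_, hcardA⟩
    · by_cases hpM : p ∣ Nat.card M
      · obtain ⟨P, hP⟩ := hTp.exists_le_sylow
        haveI := hS p hp.out hpA hpM P
        let ι : ↥(R : Subgroup U) →* ↥(P : Subgroup G) :=
          (U.subtype.comp (R : Subgroup U).subtype).codRestrict _ fun y => hP (hR'T.le ⟨y, y.2, rfl⟩)
        haveI : IsCyclic ↥(R : Subgroup U) := isCyclic_of_injective ι fun a b hab =>
          Subtype.ext (Subtype.ext (congrArg (fun t : ↥(P : Subgroup G) => (t : G)) hab))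
        infer_instance
      · refine ⟨⟨fun a b => Subtype.ext (Subtype.ext ?_)⟩⟩
        have hc : ⁅((a : U) : G), ((b : U) : G)⁆ ∈ R' ⊓ M :=
          ⟨⟨⁅(a : U), (b : U)⁆, mul_mem (mul_mem (mul_mem a.2 b.2) (inv_mem a.2)) (inv_mem b.2),
            map_commutatorElement U.subtype (a : U) (b : U)⟩,
            (QuotientGroup.eq_one_iff _).mp (show π ⁅((a : U) : G), ((b : U) : G)⁆ = 1 by
              rw [map_commutatorElement, commutatorElement_eq_one_iff_mul_comm]
              exact congrArg Subtype.val (hA.is_comm.comm (g' a) (g' b)))⟩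
        obtain ⟨i, hi⟩ := (IsPGroup.iff_orderOf.mp (R.2.map U.subtype)) ⟨_, hc.1⟩
        rw [← Subgroup.orderOf_coe] at hi
        exact commutatorElement_eq_one_iff_mul_comm.mp (orderOf_eq_one_iff.mp (Nat.eq_one_of_dvd_coprimes
          (((hp.out.coprime_iff_not_dvd.mpr hpM)).pow_left i) hi.dvd (orderOf_dvd_natCard M hc.2)))
    · rw [← card_map_of_injective U.subtype_injective, show (R : Subgroup U).map U.subtype = T' from hR'T,
        card_map_of_injective X.subtype_injective, T.card_eq_multiplicity]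
  have hVp : ∀ p : ℕ, ∀ _ : Fact p.Prime, p ∣ Nat.card V → p ∣ Nat.card A :=
    fun p hp hd => OddLocal.piCore_primes σ hp.out hd
  have hfac : ∀ p : ℕ, p.Prime → (Nat.card V).factorization p =
      if p ∣ Nat.card A then (Nat.card X).factorization p else 0 := by
    intro p hp
    haveI := Fact.mk hp
    split_ifs with hpA
    · set R : Sylow p U := default
      obtain ⟨hRV, -, hRc, -⟩ := hsyl p inferInstance hpA R
      rw [← (Nat.pow_right_injective hp.two_le).eq_iff (a := (Nat.card V).factorization p), ← hRc,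
        ← (R.subtype hRV).card_eq_multiplicity]
      exact Basics.card_subgroupOf hRV
    · exact Nat.factorization_eq_zero_of_not_dvd fun hd => hpA (hVp p inferInstance hd)
  refine ⟨V.map U.subtype, ?_, ?_, fun p hp => by
    rw [card_map_of_injective U.subtype_injective]; exact hfac p hp⟩
  · have hVab : IsMulCommutative ↥V := by
      have hcent : center V = ⊤ := by
        refine Basics.eq_top_of_sylow_le _ fun p hp hd => ⟨default, ?_⟩
        set Q : Sylow p V := default
        intro y hy
        refine mem_center_iff.mpr fun z => ?_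
        have : centralizer ({y} : Set V) = ⊤ := by
          refine Basics.eq_top_of_sylow_le _ fun q hq hdq => ⟨default, fun w hw => ?_⟩
          refine mem_centralizer_singleton_iff.mpr ?_
          by_cases hqp : q = p
          · subst hqp
            obtain ⟨R, hR⟩ := (Q.2.map V.subtype).exists_le_sylow
            obtain ⟨-, hRab, -, -⟩ := hsyl q inferInstance (hVp q inferInstance hd) R
            have hQeq : (default : Sylow q V) = Q := rfl
            have := hRab.is_comm.comm ⟨(w : U), hR ⟨w, hQeq ▸ hw, rfl⟩⟩ ⟨(y : U), hR ⟨y, hy, rfl⟩⟩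
            exact Subtype.ext (congrArg (fun t : (R : Subgroup U) => (t : U)) this)
          · obtain ⟨i, hi⟩ := (IsPGroup.iff_orderOf.mp (default : Sylow q V).2) ⟨w, hw⟩
            obtain ⟨j, hj⟩ := (IsPGroup.iff_orderOf.mp Q.2) ⟨y, hy⟩
            rw [← Subgroup.orderOf_coe] at hi hj
            refine (Cfsg.Agent.Transfer.commute_of_coprime_of_nilpotent ?_).eq
            rw [hi, hj]
            exact Nat.Coprime.pow _ _ ((Nat.coprime_primes hq.out hp.out).mpr hqp)
        exact mem_centralizer_singleton_iff.mp (this ▸ mem_top z)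
      exact ⟨⟨fun a b => (mem_center_iff.mp (hcent ▸ mem_top a) b).symm⟩⟩
    refine ⟨⟨fun a b => ?_⟩⟩
    obtain ⟨_, a', ha', rfl⟩ := a
    obtain ⟨_, b', hb', rfl⟩ := b
    exact Subtype.ext (congrArg (fun t : V => ((t : U) : G)) (hVab.is_comm.comm ⟨a', ha'⟩ ⟨b', hb'⟩))
  · rw [map_map, ← hf]
    refine le_antisymm (hfA ▸ Subgroup.map_le_range f V) ?_
    rw [← subgroupOf_eq_top]
    refine Basics.eq_top_of_sylow_le _ fun p hp hd => ?_
    set R : Sylow p U := default
    obtain ⟨hRV, -, -, hRc⟩ := hsyl p inferInstance hd R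
    set g' : U →* A := f.codRestrict A fun x => hfA ▸ ⟨x, rfl⟩
    have hg' : Function.Surjective g' := fun a => by
      obtain ⟨x, hx⟩ := (hfA.ge a.2 : (a : G ⧸ M) ∈ f.range)
      exact ⟨x, Subtype.ext hx⟩
    refine ⟨R.mapSurjective hg', ?_⟩
    rintro _ ⟨x, hx, rfl⟩
    exact ⟨x, hRV hx, rfl⟩

/-- The quotient property from cyclic Sylow subgroups. -/
theorem conj_of_lift (hB : HB G) (M : Subgroup G) [M.Normal] (A B : Subgroup (G ⧸ M))
    (hA : IsMulCommutative ↥A) (hBc : IsMulCommutative ↥B) (hcard : Nat.card A = Nat.card B)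
    (hS : ∀ p : ℕ, p.Prime → p ∣ Nat.card A → p ∣ Nat.card M → ∀ P : Sylow p G, IsCyclic ↥(P : Subgroup G)) :
    ∃ g : G ⧸ M, B = A.map (MulAut.conj g).toMonoidHom := by
  obtain ⟨U, hUab, hUA, hUf⟩ := exists_abelian_lift M A hA hS
  obtain ⟨V, hVab, hVB, hVf⟩ := exists_abelian_lift M B hBc (fun p hp hd => hS p hp (hcard ▸ hd))
  have hX : Nat.card ↥(A.comap (QuotientGroup.mk' M)) = Nat.card ↥(B.comap (QuotientGroup.mk' M)) := by
    rw [Basics.card_comap_mk' A, Basics.card_comap_mk' B, hcard]
  obtain ⟨g, hg⟩ := hB U V hUab hVab (Nat.eq_of_factorization_eq Nat.card_pos.ne' Nat.card_pos.ne'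
    fun p => by
      by_cases hp : p.Prime
      · rw [hUf p hp, hVf p hp, hX, hcard]
      · rw [Nat.factorization_eq_zero_of_not_prime _ hp, Nat.factorization_eq_zero_of_not_prime _ hp])
  refine ⟨QuotientGroup.mk' M g, ?_⟩
  rw [← hVB, hg, ← hUA, map_map, map_map]
  congr 1

/-- The hypothesis on Sylow subgroups for odd primes. -/
theorem cyclic_of_dvd (hB : HB G) (M : Subgroup G) [M.Normal] (A : Subgroup (G ⧸ M)) {p : ℕ}
    [hp : Fact p.Prime] (hp2 : p ≠ 2) (hpA : p ∣ Nat.card A) (hpM : p ∣ Nat.card M) (P : Sylow p G) :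
    IsCyclic ↥(P : Subgroup G) := by
  obtain ⟨a, ha⟩ := exists_prime_orderOf_dvd_card' (G := A) p hpA
  obtain ⟨g, hg⟩ := QuotientGroup.mk'_surjective M (a : G ⧸ M)
  obtain ⟨x, y, hx, hy, hxy, ⟨i, hxi⟩, hyc⟩ := Cfsg.Agent.Transfer.exists_pPart_mul (p := p) g
  have hxM : x ∉ M := by
    intro hxM
    have h1 : QuotientGroup.mk' M y = a := by
      rw [← hg, ← hxy, map_mul, show QuotientGroup.mk' M x = 1 from (QuotientGroup.eq_one_iff x).mpr hxM,
        one_mul]
    have h2 : p ∣ orderOf y := by
      rw [← ha, ← Subgroup.orderOf_coe, ← h1]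
      exact orderOf_map_dvd _ y
    exact hp.out.ne_one (Nat.eq_one_of_dvd_coprimes hyc h2 dvd_rfl)
  obtain ⟨m, -, hm⟩ := (Nat.dvd_prime_pow hp.out).mp hxi
  have hm2 : 2 ≤ m := by
    by_contra hlt
    interval_cases m
    · have hx1 : x = 1 := orderOf_eq_one_iff.mp (by simpa using hm)
      exact hxM (hx1 ▸ M.one_mem)
    · obtain ⟨⟨c, hc⟩, hco⟩ := exists_prime_orderOf_dvd_card' (G := M) p hpM
      rw [Subgroup.orderOf_mk] at hco
      exact hxM (mem_of_orderOf_eq hB M hc (by rw [hco, hm, pow_one]))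
  have hx2 : orderOf (x ^ p ^ (m - 2)) = p ^ 2 := by
    rw [orderOf_pow_of_dvd (pow_ne_zero _ hp.out.ne_zero) (hm ▸ pow_dvd_pow p (Nat.sub_le m 2)), hm,
      Nat.pow_div (Nat.sub_le m 2) hp.out.pos, show m - (m - 2) = 2 by omega]
  rcases InvChar.cyclic_or_quaternion P.2 (sylow_unique hB hx2 P) with h | ⟨h, -⟩
  · exact h
  · exact absurd h hp2

end Cfsg.Agent.BGroup23
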