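import Cfsg.Agent.Lib.BGroup23.Quotient
import Cfsg.Agent.Lib.Basics.Cores

/-!
Quotients of solvable groups in which abelian subgroups of equal order are conjugate.
-/

set_option autoImplicit false
set_option linter.style.haveILetI false

set_option maxHeartbeats 800000

namespace Cfsg.Agent.BGroup23

open Subgroup
open scoped commutatorElement Pointwise

universe u

theorem hb_equiv {G H : Type*} [Group G] [Group H] (e : G ≃* H) (hB : HB G) : HB H := by
  intro A B hA hBc hcard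
  have hc : ∀ C : Subgroup H, Nat.card ↥(C.comap e.toMonoidHom) = Nat.card C := fun C => by
    exact Nat.card_congr
      { toFun := fun a => ⟨e a, a.2⟩
        invFun := fun c => ⟨e.symm c, show e (e.symm c) ∈ C by rw [e.apply_symm_apply]; exact c.2⟩
        left_inv := fun a => Subtype.ext (e.symm_apply_apply a)
        right_inv := fun c => Subtype.ext (e.apply_symm_apply c) }
  have hab : ∀ C : Subgroup H, IsMulCommutative ↥C → IsMulCommutative ↥(C.comap e.toMonoidHom) :=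
    fun C hC => ⟨⟨fun a b => Subtype.ext (e.injective (by
      rw [Subgroup.coe_mul, Subgroup.coe_mul, map_mul, map_mul]
      exact congrArg Subtype.val (hC.is_comm.comm ⟨e a, a.2⟩ ⟨e b, b.2⟩)))⟩⟩
  obtain ⟨g, hg⟩ := hB _ _ (hab A hA) (hab B hBc) (by rw [hc, hc, hcard])
  refine ⟨e g, ?_⟩
  have hs : Function.Surjective e.toMonoidHom := e.surjective
  rw [← map_comap_eq_self_of_surjective hs B, hg, map_map,
    ← map_comap_eq_self_of_surjective hs A, comap_map_eq_self_of_injective e.injective, map_map]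
  congr 1
  ext x
  simp

section

variable {G : Type u} [Group G] [Finite G]

/-- In a solvable group with the property a quaternion Sylow `2`-subgroup has order `8`. -/
theorem quaternion_small [Group.IsSolvable G] (hB : HB G) (P : Sylow 2 G) (a b : G) (haP : a ∈ P)
    (hbP : b ∈ P) (ha : ¬ a ^ 4 = 1) (hb : orderOf b = 4) (hb' : b ∉ zpowers a)
    (hout : ∀ x ∈ (P : Subgroup G), x ∉ zpowers a → orderOf x = 4)
    (hinv : ∀ x ∈ (P : Subgroup G), x ^ 2 = 1 → x ∈ zpowers a)
    (huniq : ∀ x ∈ (P : Subgroup G), ∀ y ∈ (P : Subgroup G), orderOf x = 2 → orderOf y = 2 → x = y) :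
    False := by
  set W := Cfsg.pPrimeCore 2 G
  set π := QuotientGroup.mk' W
  have hWp : (Nat.card W).Coprime 2 := Basics.pPrimeCore_coprime 2
  have hinj : ∀ x ∈ (P : Subgroup G), π x = 1 → x = 1 := by
    intro x hx hx1
    obtain ⟨i, hi⟩ := (IsPGroup.iff_orderOf.mp P.2) ⟨x, hx⟩
    rw [← Subgroup.orderOf_coe] at hi
    exact orderOf_eq_one_iff.mp (Nat.eq_one_of_dvd_coprimes (hWp.symm.pow_left i) hi.dvd
      (orderOf_dvd_natCard W ((QuotientGroup.eq_one_iff x).mp hx1)))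
  set Pb := P.mapSurjective (QuotientGroup.mk'_surjective W)
  have hPb : ∀ q : G ⧸ W, q ∈ (Pb : Subgroup (G ⧸ W)) → ∃ x ∈ (P : Subgroup G), π x = q := by
    intro q hq
    obtain ⟨x, hx, he⟩ := hq
    exact ⟨x, hx, he⟩
  set O := Cfsg.pCore 2 (G ⧸ W)
  have hOP : O ≤ (Pb : Subgroup (G ⧸ W)) := Basics.pCore_le_sylow 2 Pb
  have hW1 : Cfsg.pPrimeCore 2 (G ⧸ W) = ⊥ := Basics.pPrimeCore_quotient_eq_bot 2
  have hexp : ∃ q ∈ O, q ^ 2 ≠ 1 := by
    by_contra! hall
    have hcent : ∀ q : G ⧸ W, q ∈ centralizer (O : Set (G ⧸ W)) := by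
      intro q
      refine mem_centralizer_iff.mpr fun y hy => ?_
      by_cases hy1 : y = 1
      · simp [hy1]
      have hq2 : (q * y * q⁻¹) ∈ O := (inferInstance : O.Normal).conj_mem y hy q
      obtain ⟨y₀, hy₀, hy₀e⟩ := hPb y (hOP hy)
      obtain ⟨w₀, hw₀, hw₀e⟩ := hPb _ (hOP hq2)
      have key : ∀ x ∈ (P : Subgroup G), ∀ z : G ⧸ W, π x = z → z ∈ O → z ≠ 1 → orderOf x = 2 := by
        intro x hx z hxz hz hz1
        refine orderOf_eq_prime (hinj _ ((P : Subgroup G).pow_mem hx 2) ?_) fun hx1 => hz1 ?_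
        · rw [map_pow, hxz, hall z hz]
        · rw [← hxz, hx1, map_one]
      have h1 : w₀ = y₀ := huniq w₀ hw₀ y₀ hy₀
        (key w₀ hw₀ _ hw₀e hq2 fun he => hy1 (by
          calc y = q⁻¹ * (q * y * q⁻¹) * q := by simp [mul_assoc]
            _ = 1 := by rw [he]; simp))
        (key y₀ hy₀ _ hy₀e hy hy1)
      have h2 : q * y * q⁻¹ = y := by rw [← hw₀e, h1, hy₀e]
      exact (mul_inv_eq_iff_eq_mul.mp h2).symm
    have h1 : π a ∈ O := Basics.centralizer_pCore_le hW1 (hcent _)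
    have h2 := hall _ h1
    refine ha (hinj _ ((P : Subgroup G).pow_mem haP 4) ?_)
    rw [map_pow, show 4 = 2 * 2 from rfl, pow_mul, h2, one_pow]
  -- all elements of order `4` lie over `O`
  have h4 : ∀ x : G, orderOf x = 4 → π x ∈ O := by
    obtain ⟨q, hq, hq2⟩ := hexp
    obtain ⟨x₀, hx₀, rfl⟩ := hPb q (hOP hq)
    obtain ⟨i, hi⟩ := (IsPGroup.iff_orderOf.mp P.2) ⟨x₀, hx₀⟩
    rw [← Subgroup.orderOf_coe] at hi
    have hi2 : 2 ≤ i := by
      by_contra hlt
      refine hq2 ?_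
      have : x₀ ^ 2 = 1 := orderOf_dvd_iff_pow_eq_one.mp (hi ▸ (pow_dvd_pow 2 (by omega : i ≤ 1)).trans
        (by norm_num))
      rw [← map_pow, this, map_one]
    intro x hx
    refine mem_of_orderOf_eq hB (O.comap π) (m := x₀ ^ 2 ^ (i - 2)) ?_ ?_
    · show π (x₀ ^ 2 ^ (i - 2)) ∈ O
      rw [map_pow]; exact pow_mem hq _
    · rw [orderOf_pow_of_dvd (pow_ne_zero _ two_ne_zero) (hi ▸ pow_dvd_pow 2 (Nat.sub_le i 2)), hi,
        Nat.pow_div (Nat.sub_le i 2) two_pos, show i - (i - 2) = 2 by omega, hx]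
      norm_num
  have hPO : (Pb : Subgroup (G ⧸ W)) = O := by
    refine le_antisymm (fun q hq => ?_) hOP
    obtain ⟨x, hx, rfl⟩ := hPb q hq
    by_cases hxa : x ∈ zpowers a
    · have h1 : orderOf (x * b) = 4 := hout _ ((P : Subgroup G).mul_mem hx hbP) fun h =>
        hb' ((zpowers a).mul_mem_cancel_left hxa |>.mp h)
      have h2 := O.mul_mem (h4 _ h1) (O.inv_mem (h4 b hb))
      rwa [← map_inv, ← map_mul, mul_inv_cancel_right] at h2
    · exact h4 x (hout x hx hxa)
  set R := normalClosure ({π a} : Set (G ⧸ W))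
  have hconj : Group.conjugatesOfSet ({π a} : Set (G ⧸ W)) ⊆ (zpowers (π a) : Set (G ⧸ W)) := by
    intro q hq
    obtain ⟨c, hc, hcq⟩ := Group.mem_conjugatesOfSet_iff.mp hq
    obtain ⟨d, hd⟩ := isConj_iff.mp hcq
    rw [Set.mem_singleton_iff] at hc
    subst hc
    have hqO : q ∈ O := hd ▸ (inferInstance : O.Normal).conj_mem _ (hPO ▸ mem_map_of_mem π haP) d
    obtain ⟨x, hx, rfl⟩ := hPb q (hPO.ge hqO)
    by_cases hxa : x ∈ zpowers a
    · obtain ⟨j, rfl⟩ := mem_zpowers_iff.mp hxa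
      exact mem_zpowers_iff.mpr ⟨j, (map_zpow π a j).symm⟩
    · exfalso
      have h1 := hout x hx hxa
      refine ha (hinj _ ((P : Subgroup G).pow_mem haP 4) ?_)
      have h2 : d * π a ^ 4 * d⁻¹ = 1 := by
        rw [← conj_pow, hd, ← map_pow, show x ^ 4 = 1 from h1 ▸ pow_orderOf_eq_one x, map_one]
      rw [map_pow]
      calc π a ^ 4 = d⁻¹ * (d * π a ^ 4 * d⁻¹) * d := by simp [mul_assoc]
        _ = 1 := by rw [h2]; simp
  have hRa : R ≤ zpowers (π a) := (closure_le _).mpr hconj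
  -- an element of order `4` over `R`
  obtain ⟨i, hi⟩ := (IsPGroup.iff_orderOf.mp P.2) ⟨a, haP⟩
  rw [← Subgroup.orderOf_coe] at hi
  change orderOf a = 2 ^ i at hi
  have hi2 : 2 ≤ i := by
    by_contra hlt
    refine ha (orderOf_dvd_iff_pow_eq_one.mp ?_)
    rw [hi]
    exact (pow_dvd_pow 2 (show i ≤ 2 by omega)).trans (by norm_num : (2 : ℕ) ^ 2 ∣ 4)
  have hbR : π b ∈ R := by
    refine mem_of_orderOf_eq hB (R.comap π) (m := a ^ 2 ^ (i - 2)) ?_ ?_
    · show π (a ^ 2 ^ (i - 2)) ∈ R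
      rw [map_pow]
      exact R.pow_mem (subset_normalClosure (Set.mem_singleton (π a))) _
    · rw [orderOf_pow_of_dvd (pow_ne_zero _ two_ne_zero) (by rw [hi]; exact pow_dvd_pow 2 (Nat.sub_le i 2)), hi,
        Nat.pow_div (Nat.sub_le i 2) two_pos, show i - (i - 2) = 2 by omega, hb]
      norm_num
  obtain ⟨j, hj⟩ := mem_zpowers_iff.mp (hRa hbR)
  refine hb' (mem_zpowers_iff.mpr ⟨j, ?_⟩)
  have h1 : π (a ^ (-j) * b) = 1 := by rw [map_mul, map_zpow, ← hj, ← zpow_add, neg_add_cancel, zpow_zero]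
  have h2 := hinj _ ((P : Subgroup G).mul_mem ((P : Subgroup G).zpow_mem haP _) hbP) h1
  rw [zpow_neg] at h2
  exact (inv_mul_eq_one.mp h2)

/-- The Sylow `2`-subgroups are cyclic or quaternion of order `8`. -/
theorem sylow_two_cases [Group.IsSolvable G] (hB : HB G) {x : G} (hx : orderOf x = 2 ^ 2) (P : Sylow 2 G) :
    IsCyclic ↥(P : Subgroup G) ∨ Nat.card ↥(P : Subgroup G) = 8 := by
  rcases InvChar.cyclic_or_quaternion P.2 (sylow_unique hB hx P) with h | ⟨-, n, ⟨e⟩⟩
  · exact Or.inl h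
  rcases n with _ | _ | n
  · left
    haveI : IsCyclic (QuaternionGroup (2 ^ 0)) := by rw [pow_zero]; exact QuaternionGroup.quaternionGroup_one_isCyclic
    exact isCyclic_of_injective e.toMonoidHom e.injective
  · right
    rw [Nat.card_congr e.toEquiv, Nat.card_eq_fintype_card, QuaternionGroup.card]
    norm_num
  exfalso
  set m := 2 ^ (n + 1 + 1) with hm
  haveI : NeZero m := ⟨by positivity⟩
  set a : G := ((e.symm (QuaternionGroup.a 1) : ↥(P : Subgroup G)) : G) with hadef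
  set b : G := ((e.symm (QuaternionGroup.xa 0) : ↥(P : Subgroup G)) : G) with hbdef
  have hoa : orderOf a = 2 * m := by
    rw [hadef, Subgroup.orderOf_coe, MulEquiv.orderOf_eq, QuaternionGroup.orderOf_a_one]
  have hout : ∀ y ∈ (P : Subgroup G), y ∉ zpowers a → orderOf y = 4 := by
    intro y hy hya
    rcases hq : e ⟨y, hy⟩ with i | i
    · exfalso
      refine hya ?_
      have h1 : (⟨y, hy⟩ : ↥(P : Subgroup G)) = e.symm (QuaternionGroup.a 1) ^ i.val := by
        rw [← map_pow, QuaternionGroup.a_one_pow, ZMod.natCast_zmod_val, ← hq, e.symm_apply_apply]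
      rw [show y = a ^ i.val from congrArg Subtype.val h1]
      exact npow_mem_zpowers a _
    · have h1 : orderOf (e ⟨y, hy⟩) = 4 := by rw [hq, QuaternionGroup.orderOf_xa]
      rwa [MulEquiv.orderOf_eq, Subgroup.orderOf_mk] at h1
  have hb' : b ∉ zpowers a := by
    intro hb
    obtain ⟨j, hj⟩ := mem_zpowers_iff.mp hb
    have h1 : (e.symm (QuaternionGroup.a 1) : ↥(P : Subgroup G)) ^ j = e.symm (QuaternionGroup.xa 0) :=
      Subtype.ext hj
    rw [← map_zpow] at h1
    have h2 := e.symm.injective h1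
    obtain ⟨k, hk⟩ : ∃ k : ℕ, (QuaternionGroup.a 1 : QuaternionGroup m) ^ j = QuaternionGroup.a 1 ^ k :=
      ((isOfFinOrder_of_finite _).mem_powers_iff_mem_zpowers.mpr ⟨j, rfl⟩).imp fun k hk => hk.symm
    rw [hk, QuaternionGroup.a_one_pow] at h2
    cases h2
  refine quaternion_small hB P a b (Subtype.coe_prop _) (Subtype.coe_prop _) ?_ ?_ hb' hout ?_ ?_
  · intro h4
    have h5 := Nat.le_of_dvd (by norm_num) (orderOf_dvd_of_pow_eq_one h4)
    rw [hoa, hm, pow_succ, pow_succ] at h5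
    have := Nat.one_le_two_pow (n := n)
    omega
  · rw [hbdef, Subgroup.orderOf_coe, MulEquiv.orderOf_eq, QuaternionGroup.orderOf_xa]
  · intro y hy h2
    by_contra hya
    have := Nat.le_of_dvd (by norm_num) (hout y hy hya ▸ orderOf_dvd_of_pow_eq_one h2)
    omega
  · intro y hy z hz hy2 hz2
    have hu := sylow_unique hB hx P (zpowers ⟨y, hy⟩) (zpowers ⟨z, hz⟩)
      (by rw [Nat.card_zpowers, Subgroup.orderOf_mk, hy2]) (by rw [Nat.card_zpowers, Subgroup.orderOf_mk, hz2])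
    have h1 : (⟨y, hy⟩ : ↥(P : Subgroup G)) ∈ zpowers ⟨z, hz⟩ := hu ▸ mem_zpowers _
    obtain ⟨k, hk⟩ := ((isOfFinOrder_of_finite _).mem_powers_iff_mem_zpowers.mpr h1)
    have hk' : y = z ^ k := (congrArg Subtype.val hk).symm
    rcases Nat.even_or_odd' k with ⟨r, rfl | rfl⟩
    · exfalso
      rw [pow_mul, show z ^ 2 = 1 from hz2 ▸ pow_orderOf_eq_one z, one_pow] at hk'
      simp [hk'] at hy2
    · rw [hk', pow_succ, pow_mul, show z ^ 2 = 1 from hz2 ▸ pow_orderOf_eq_one z, one_pow, one_mul]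

/-- The case of a central subgroup of order `2` in a quaternion Sylow subgroup of order `8`. -/
theorem conj_central_two (hB : HB G) (M : Subgroup G) [M.Normal] (hM : Nat.card M = 2) (P : Sylow 2 G)
    (hP : Nat.card ↥(P : Subgroup G) = 8) (A B : Subgroup (G ⧸ M)) (hA : IsMulCommutative ↥A)
    (hBc : IsMulCommutative ↥B) (hcard : Nat.card A = Nat.card B) :
    ∃ g : G ⧸ M, B = A.map (MulAut.conj g).toMonoidHom := by
  set π := QuotientGroup.mk' M
  have hMc : M ≤ center G := by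
    intro m hm
    refine mem_center_iff.mpr fun g => ?_
    by_cases hm1 : m = 1
    · simp [hm1]
    have hconj : g * m * g⁻¹ ∈ M := (inferInstance : M.Normal).conj_mem m hm g
    obtain ⟨w, -, hw⟩ := (Nat.card_eq_two_iff' (1 : M)).mp hM
    have this : (⟨g * m * g⁻¹, hconj⟩ : M) = ⟨m, hm⟩ := by
      refine (hw _ fun h => hm1 ?_).trans (hw _ fun h => hm1 (congrArg Subtype.val h)).symm
      have h' : g * m * g⁻¹ = 1 := congrArg Subtype.val h
      calc m = g⁻¹ * (g * m * g⁻¹) * g := by simp [mul_assoc]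
        _ = 1 := by rw [h']; simp
    exact mul_inv_eq_iff_eq_mul.mp (congrArg Subtype.val this)
  have key : ∀ C : Subgroup (G ⧸ M), IsMulCommutative ↥C →
      ∃ D Q : Subgroup G, IsMulCommutative ↥D ∧ (Nat.card D).Coprime 2 ∧
        (∀ q ∈ Q, q ∈ centralizer (D : Set G)) ∧ IsPGroup 2 Q ∧ D ⊔ Q = C.comap π ∧
        Nat.card D * Nat.card Q = Nat.card ↥(C.comap π) ∧
        (Nat.card Q ≤ 4 → IsMulCommutative ↥(C.comap π)) := by
    intro C hC
    set X := C.comap π
    let f : X →* C := (π.comp X.subtype).codRestrict C fun x => x.2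
    have hfker : ∀ x : X, f x = 1 → (x : G) ∈ M := fun x hx =>
      (QuotientGroup.eq_one_iff (x : G)).mp (congrArg Subtype.val hx)
    letI : CommGroup C := { (inferInstance : Group C) with mul_comm := hC.is_comm.comm }
    haveI : Group.IsNilpotent X := Subgroup.isNilpotent_of_ker_le_center f fun x hx =>
      mem_center_iff.mpr fun y => Subtype.ext (mem_center_iff.mp (hMc (hfker x hx)) (y : G))
    set D₀ := Cfsg.pPrimeCore 2 X
    set Q₀ : Sylow 2 X := default
    have hco : (Nat.card D₀).Coprime 2 := Basics.pPrimeCore_coprime 2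
    have hD₀ab : ∀ u ∈ D₀, ∀ v ∈ D₀, u * v = v * u := by
      intro u hu v hv
      refine commutatorElement_eq_one_iff_mul_comm.mp ?_
      have h1 : ((⁅u, v⁆ : X) : G) ∈ M := hfker _ (by
        rw [map_commutatorElement, commutatorElement_eq_one_iff_mul_comm]
        exact mul_comm _ _)
      refine Subtype.ext (orderOf_eq_one_iff.mp (Nat.eq_one_of_dvd_coprimes hco ?_
        (hM ▸ orderOf_dvd_natCard M h1)))
      rw [Subgroup.orderOf_coe]
      exact orderOf_dvd_natCard D₀ (D₀.mul_mem (D₀.mul_mem (D₀.mul_mem hu hv) (D₀.inv_mem hu)) (D₀.inv_mem hv))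
    have hcomm : ∀ u ∈ D₀, ∀ q ∈ (Q₀ : Subgroup X), u * q = q * u := by
      intro u hu q hq
      obtain ⟨i, hi⟩ := (IsPGroup.iff_orderOf.mp Q₀.2) ⟨q, hq⟩
      rw [← Subgroup.orderOf_coe] at hi
      refine (Cfsg.Agent.Transfer.commute_of_coprime_of_nilpotent ?_).eq
      rw [hi]
      exact (hco.coprime_dvd_left (orderOf_dvd_natCard D₀ hu)).pow_right i
    have htop : D₀ ⊔ (Q₀ : Subgroup X) = ⊤ := by
      refine Basics.eq_top_of_sylow_le _ fun q hq _ => ?_
      by_cases h2 : q = 2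
      · subst h2; exact ⟨Q₀, le_sup_right⟩
      · refine ⟨default, le_trans ?_ le_sup_left⟩
        refine Basics.le_pPrimeCore ?_
        obtain ⟨i, hi⟩ := (default : Sylow q X).2.exists_card_eq
        rw [hi]
        exact ((Nat.coprime_primes hq.out Nat.prime_two).mpr h2).pow_left i
    refine ⟨D₀.map X.subtype, (Q₀ : Subgroup X).map X.subtype, ⟨⟨?_⟩⟩, ?_, ?_, Q₀.2.map _, ?_, ?_, ?_⟩
    · rintro ⟨_, u, hu, rfl⟩ ⟨_, v, hv, rfl⟩
      exact Subtype.ext (congrArg (fun t : X => (t : G)) (hD₀ab u hu v hv))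
    · rwa [card_map_of_injective X.subtype_injective]
    · rintro _ ⟨q, hq, rfl⟩
      refine mem_centralizer_iff.mpr ?_
      rintro _ ⟨u, hu, rfl⟩
      exact congrArg Subtype.val (hcomm u hu q hq)
    · rw [← Subgroup.map_sup, htop, ← MonoidHom.range_eq_map, range_subtype]
    · rw [card_map_of_injective X.subtype_injective, card_map_of_injective X.subtype_injective,
        ← Basics.card_sup_of_coprime (N := D₀) (by rw [normalizer_eq_top_iff.mpr inferInstance]; exact le_top)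
          (by
            obtain ⟨i, hi⟩ := Q₀.2.exists_card_eq
            rw [hi]
            exact hco.pow_right i), htop, card_top]
    · intro hQ
      rw [card_map_of_injective X.subtype_injective] at hQ
      obtain ⟨i, hi⟩ := Q₀.2.exists_card_eq
      have hi2 : i ≤ 2 := by
        by_contra h3
        have : 2 ^ 3 ≤ 2 ^ i := Nat.pow_le_pow_right two_pos (by omega)
        omega
      have hQab : ∀ u ∈ (Q₀ : Subgroup X), ∀ v ∈ (Q₀ : Subgroup X), u * v = v * u := by
        intro u hu v hv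
        haveI : Fact (Nat.Prime 2) := ⟨Nat.prime_two⟩
        have : IsMulCommutative ↥(Q₀ : Subgroup X) := by
          interval_cases i
          · haveI := (Nat.card_eq_one_iff_unique.mp (show Nat.card ↥(Q₀ : Subgroup X) = 1 by simpa using hi)).1
            exact ⟨⟨fun a b => Subsingleton.elim _ _⟩⟩
          · haveI := isCyclic_of_prime_card (p := 2) (by simpa using hi)
            infer_instance
          · exact ⟨⟨(IsPGroup.commGroupOfCardEqPrimeSq (p := 2) hi).mul_comm⟩⟩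
        exact congrArg Subtype.val (this.is_comm.comm ⟨u, hu⟩ ⟨v, hv⟩)
      refine ⟨⟨fun x y => ?_⟩⟩
      obtain ⟨u₁, hu₁, v₁, hv₁, rfl⟩ := mem_sup_of_normal_left.mp (htop.symm ▸ mem_top x)
      obtain ⟨u₂, hu₂, v₂, hv₂, rfl⟩ := mem_sup_of_normal_left.mp (htop.symm ▸ mem_top y)
      have c1 : Commute (u₁ * v₁) (u₂ * v₂) :=
        ((show Commute u₁ u₂ from hD₀ab _ hu₁ _ hu₂).mul_right (hcomm _ hu₁ _ hv₂)).mul_left
          (((show Commute u₂ v₁ from hcomm _ hu₂ _ hv₁).symm).mul_right (hQab _ hv₁ _ hv₂))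
      exact c1.eq
  have hconv : ∀ g : G, B.comap π = (A.comap π).map (MulAut.conj g).toMonoidHom →
      ∃ g : G ⧸ M, B = A.map (MulAut.conj g).toMonoidHom := fun g hg => by
    refine ⟨π g, ?_⟩
    have hπ := QuotientGroup.mk'_surjective M
    rw [← map_comap_eq_self_of_surjective hπ B, hg, map_map]
    conv_rhs => rw [← map_comap_eq_self_of_surjective hπ A, map_map]
    congr 1
  have hcardX : Nat.card ↥(A.comap π) = Nat.card ↥(B.comap π) := by
    rw [Basics.card_comap_mk' A, Basics.card_comap_mk' B, hcard]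
  obtain ⟨DA, QA, hDAab, hDAc, hQAD, hQAp, hsupA, hmulA, habA⟩ := key A hA
  obtain ⟨DB, QB, hDBab, hDBc, hQBD, hQBp, hsupB, hmulB, habB⟩ := key B hBc
  obtain ⟨i, hi⟩ := hQAp.exists_card_eq
  obtain ⟨j, hj⟩ := hQBp.exists_card_eq
  have hDQ : Nat.card DA = Nat.card DB ∧ Nat.card QA = Nat.card QB := by
    have h1 : Nat.card DA * Nat.card QA = Nat.card DB * Nat.card QB := by rw [hmulA, hmulB, hcardX]
    have hd : Nat.card DA = Nat.card DB := by
      refine Nat.dvd_antisymm ?_ ?_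
      · exact Nat.Coprime.dvd_of_dvd_mul_right (hj ▸ hDAc.pow_right j) (h1 ▸ dvd_mul_right _ _)
      · exact Nat.Coprime.dvd_of_dvd_mul_right (hi ▸ hDBc.pow_right i) (h1.symm ▸ dvd_mul_right _ _)
    exact ⟨hd, Nat.eq_of_mul_eq_mul_left Nat.card_pos (by rw [← h1, hd])⟩
  by_cases hsmall : Nat.card QA ≤ 4
  · obtain ⟨g, hg⟩ := hB _ _ (habA hsmall) (habB (hDQ.2 ▸ hsmall)) hcardX
    exact hconv g hg
  have hfull : ∀ (Q : Subgroup G) (k : ℕ), IsPGroup 2 Q → Nat.card Q = 2 ^ k → 4 < Nat.card Q →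
      ∀ R : Sylow 2 G, Q ≤ (R : Subgroup G) → Q = R := by
    intro Q k hQ hk h4 R hR
    refine eq_of_le_of_card_ge hR ?_
    rw [R.card_eq_multiplicity, ← P.card_eq_multiplicity, hP, hk]
    have : 3 ≤ k := by
      by_contra h3
      have : 2 ^ k ≤ 2 ^ 2 := Nat.pow_le_pow_right two_pos (by omega)
      omega
    calc 8 = 2 ^ 3 := rfl
      _ ≤ 2 ^ k := Nat.pow_le_pow_right two_pos this
  obtain ⟨g, hg⟩ := hB DA DB hDAab hDBab hDQ.1
  set c := MulAut.conj g with hc
  have hQA' : IsPGroup 2 (QA.map c.toMonoidHom) := hQAp.map _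
  have hle1 : QA.map c.toMonoidHom ≤ centralizer (DB : Set G) := by
    rintro _ ⟨q, hq, rfl⟩
    refine mem_centralizer_iff.mpr fun d hd => ?_
    rw [hg] at hd
    obtain ⟨d₀, hd₀, rfl⟩ := hd
    rw [← map_mul, ← map_mul, mem_centralizer_iff.mp (hQAD q hq) d₀ hd₀]
  obtain ⟨RA, hRA⟩ := hQA'.exists_le_sylow
  obtain ⟨RB, hRB⟩ := hQBp.exists_le_sylow
  have hcardA' : Nat.card ↥(QA.map c.toMonoidHom) = Nat.card QA :=
    card_map_of_injective c.injective
  have hA' := hfull _ i hQA' (hcardA' ▸ hi) (hcardA' ▸ not_le.mp hsmall) RA hRA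
  have hB' := hfull _ j hQBp hj (hDQ.2 ▸ not_le.mp hsmall) RB hRB
  set Cn := centralizer (DB : Set G)
  have hB1 : (RB : Subgroup G) ≤ Cn := hB' ▸ hQBD
  have hA1 : (RA : Subgroup G) ≤ Cn := hA' ▸ hle1
  obtain ⟨⟨z, hz⟩, hze⟩ := MulAction.exists_smul_eq Cn (RA.subtype hA1) (RB.subtype hB1)
  have hzR : (RA : Subgroup G).map (MulAut.conj z).toMonoidHom = RB := by
    have h1 := congrArg (fun R : Sylow 2 Cn => (R : Subgroup Cn).map Cn.subtype) hze
    simp only [Sylow.coe_subgroup_smul, Sylow.coe_subtype] at h1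
    rw [subgroupOf_map_subtype, inf_eq_left.mpr hB1] at h1
    rw [← h1]
    ext y
    constructor
    · rintro ⟨r, hr, rfl⟩
      exact ⟨⟨z, hz⟩ * ⟨r, hA1 hr⟩ * ⟨z, hz⟩⁻¹, ⟨⟨r, hA1 hr⟩, hr, rfl⟩, rfl⟩
    · rintro ⟨_, ⟨r, hr, rfl⟩, rfl⟩
      exact ⟨(r : G), hr, rfl⟩
  refine hconv (z * g) ?_
  have hzD : (DA.map c.toMonoidHom).map (MulAut.conj z).toMonoidHom = DB := by
    rw [← hg]
    ext y
    constructor
    · rintro ⟨d, hd, rfl⟩
      have : MulAut.conj z d = d := by
        rw [MulAut.conj_apply, ← mem_centralizer_iff.mp hz d hd, mul_inv_cancel_right]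
      rw [MulEquiv.coe_toMonoidHom, this]; exact hd
    · intro hy
      refine ⟨y, hy, ?_⟩
      rw [MulEquiv.coe_toMonoidHom, MulAut.conj_apply, ← mem_centralizer_iff.mp hz y hy, mul_inv_cancel_right]
  have hcomp : (MulAut.conj (z * g)).toMonoidHom = (MulAut.conj z).toMonoidHom.comp c.toMonoidHom := by
    ext y
    simp [hc, mul_assoc]
  rw [← hsupA, ← hsupB, hcomp, ← map_map, Subgroup.map_sup, Subgroup.map_sup, hzD, hA', hzR, hB']

/-- Minimal step. -/
theorem hb_quotient_elementary [Group.IsSolvable G] (hB : HB G) (M : Subgroup G) [M.Normal] {p : ℕ}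
    (hp : p.Prime) (hM : ∀ x ∈ M, x ^ p = 1) : HB (G ⧸ M) := by
  intro A B hA hBc hcard
  haveI := Fact.mk hp
  have hMp : IsPGroup p M := Basics.isPGroup_of_pow_eq_one hM
  have honly : ∀ q : ℕ, q.Prime → q ∣ Nat.card M → q = p := fun q hq hd => by
    obtain ⟨i, hi⟩ := hMp.exists_card_eq
    exact (Nat.prime_dvd_prime_iff_eq hq hp).mp (hq.dvd_of_dvd_pow (hi ▸ hd))
  by_cases hbad : p = 2 ∧ 2 ∣ Nat.card A ∧ 2 ∣ Nat.card M
  swap
  · refine conj_of_lift hB M A B hA hBc hcard fun q hq hqA hqM P => ?_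
    have hqp := honly q hq hqM
    subst hqp
    exact cyclic_of_dvd hB M A (fun h2 => hbad ⟨h2, h2 ▸ hqA, h2 ▸ hqM⟩) hqA hqM P
  obtain ⟨rfl, h2A, h2M⟩ := hbad
  -- an element of order `4`
  obtain ⟨a, ha⟩ := exists_prime_orderOf_dvd_card' (G := A) 2 h2A
  obtain ⟨g, hg⟩ := QuotientGroup.mk'_surjective M (a : G ⧸ M)
  obtain ⟨x, y, -, -, hxy, ⟨i, hxi⟩, hyc⟩ := Cfsg.Agent.Transfer.exists_pPart_mul (p := 2) g
  have hxM : x ∉ M := by
    intro hxM
    have h1 : QuotientGroup.mk' M y = a := by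
      rw [← hg, ← hxy, map_mul, show QuotientGroup.mk' M x = 1 from (QuotientGroup.eq_one_iff x).mpr hxM,
        one_mul]
    have h2 : 2 ∣ orderOf y := by
      rw [← ha, ← Subgroup.orderOf_coe, ← h1]
      exact orderOf_map_dvd _ y
    exact Nat.prime_two.ne_one (Nat.eq_one_of_dvd_coprimes hyc h2 dvd_rfl)
  obtain ⟨m, -, hm⟩ := (Nat.dvd_prime_pow Nat.prime_two).mp hxi
  have hm2 : 2 ≤ m := by
    by_contra hlt
    interval_cases m
    · have hx1 : x = 1 := orderOf_eq_one_iff.mp (by simpa using hm)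
      exact hxM (hx1 ▸ M.one_mem)
    · obtain ⟨⟨c, hc⟩, hco⟩ := exists_prime_orderOf_dvd_card' (G := M) 2 h2M
      rw [Subgroup.orderOf_mk] at hco
      exact hxM (mem_of_orderOf_eq hB M hc (by rw [hco, hm, pow_one]))
  have hx2 : orderOf (x ^ 2 ^ (m - 2)) = 2 ^ 2 := by
    rw [orderOf_pow_of_dvd (pow_ne_zero _ two_ne_zero) (hm ▸ pow_dvd_pow 2 (Nat.sub_le m 2)), hm,
      Nat.pow_div (Nat.sub_le m 2) two_pos, show m - (m - 2) = 2 by omega]
  rcases sylow_two_cases hB hx2 default with hcyc | h8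
  · refine conj_of_lift hB M A B hA hBc hcard fun q hq hqA hqM P => ?_
    have hqp := honly q hq hqM
    subst hqp
    haveI := hcyc
    exact isCyclic_of_surjective ((default : Sylow 2 G).equiv P).toMonoidHom ((default : Sylow 2 G).equiv P).surjective
  · refine conj_central_two hB M ?_ default h8 A B hA hBc hcard
    obtain ⟨P, hP⟩ := hMp.exists_le_sylow
    obtain ⟨⟨c, hc⟩, hco⟩ := exists_prime_orderOf_dvd_card' (G := M) 2 h2M
    rw [Subgroup.orderOf_mk] at hco
    have hMz : M = zpowers c := by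
      refine le_antisymm (fun u hu => ?_) (zpowers_le.mpr hc)
      by_cases hu1 : u = 1
      · exact hu1 ▸ one_mem _
      have hu2 : orderOf u = 2 := orderOf_eq_prime (hM u hu) hu1
      have h1 := sylow_unique hB hx2 P (zpowers ⟨u, hP hu⟩) (zpowers ⟨c, hP hc⟩)
        (by rw [Nat.card_zpowers, Subgroup.orderOf_mk, hu2]) (by rw [Nat.card_zpowers, Subgroup.orderOf_mk, hco])
      obtain ⟨k, hk⟩ := mem_zpowers_iff.mp (h1 ▸ mem_zpowers _ : (⟨u, hP hu⟩ : ↥(P : Subgroup G)) ∈ zpowers ⟨c, hP hc⟩)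
      exact mem_zpowers_iff.mpr ⟨k, congrArg Subtype.val hk⟩
    rw [hMz, Nat.card_zpowers, hco]

end

/-- Quotients of solvable groups with the property have it. -/
theorem hb_quotient : ∀ (n : ℕ) (G : Type u) [Group G] [Finite G] [Group.IsSolvable G] (M : Subgroup G)
    [M.Normal], Nat.card M = n → HB G → HB (G ⧸ M) := by
  intro n
  induction n using Nat.strong_induction_on with
  | _ n IH =>
  intro G _ _ _ M _ hn hB
  by_cases hM : M = ⊥
  · subst hM
    exact hb_equiv QuotientGroup.quotientBot.symm hB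
  obtain ⟨p, E, hp, hEn, hEM, hE1, -, hEp⟩ := Basics.exists_elementary_normal hM inferInstance
  haveI := hEn
  have hBE : HB (G ⧸ E) := hb_quotient_elementary hB E hp hEp
  set Mb := M.map (QuotientGroup.mk' E)
  haveI : Mb.Normal := Normal.map inferInstance _ (QuotientGroup.mk'_surjective E)
  have hlt : Nat.card Mb < n := by
    have h1 : Nat.card ↥(Mb.comap (QuotientGroup.mk' E)) = Nat.card E * Nat.card Mb :=
      Basics.card_comap_mk' Mb
    rw [comap_map_eq, QuotientGroup.ker_mk', sup_eq_left.mpr hEM, hn] at h1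
    rw [h1]
    have h2 : 1 < Nat.card E := (Subgroup.one_lt_card_iff_ne_bot E).mpr hE1
    exact lt_mul_of_one_lt_left Nat.card_pos h2
  exact hb_equiv (QuotientGroup.quotientQuotientEquivQuotient E M hEM) (IH _ hlt (G ⧸ E) Mb rfl hBE)

end Cfsg.Agent.BGroup23
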